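import Groth.Agent.Lib.VarDim.Alg
import Groth.Agent.Lib.TopDimLib.Basic
import Mathlib

/-!
# Dimension of schemes of finite type over a field and field extensions
-/

universe u

open TensorProduct AlgebraicGeometry CategoryTheory Limits

set_option backward.isDefEq.respectTransparency.types false

namespace Groth.Agent.FibDim4

theorem ringKrullDim_tensorProduct (k K A : Type u) [Field k] [Field K] [CommRing A] [Algebra k K]
    [Algebra k A] [Algebra.FiniteType k A] : ringKrullDim (K ⊗[k] A) = ringKrullDim A := by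
  rcases subsingleton_or_nontrivial A with h | h
  · have : Subsingleton (K ⊗[k] A) := ⟨fun x y => by
      have h1 : (1 : K ⊗[k] A) = 0 := by
        rw [Algebra.TensorProduct.one_def, Subsingleton.elim (1 : A) 0, TensorProduct.tmul_zero]
      rw [← mul_one x, h1, mul_zero, ← mul_one y, h1, mul_zero]⟩
    rw [ringKrullDim_eq_bot_of_subsingleton, ringKrullDim_eq_bot_of_subsingleton]
  · obtain ⟨s, g, hg, hgi⟩ := exists_integral_inj_algHom_of_fg k A
    let P := MvPolynomial (Fin s) k
    let G : K ⊗[k] P →ₐ[K] K ⊗[k] A := Algebra.TensorProduct.map (AlgHom.id K K) g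
    have hG : Function.Injective G :=
      Module.Flat.lTensor_preserves_injective_linearMap (M := K) g.toLinearMap hg
    letI := g.toRingHom.toAlgebra
    have : Algebra.IsIntegral P A := ⟨hgi⟩
    have hGi : G.toRingHom.IsIntegral := by
      intro x
      induction x using TensorProduct.induction_on with
      | zero => exact G.toRingHom.isIntegralElem_zero
      | add x y hx hy => exact RingHom.IsIntegralElem.add G.toRingHom hx hy
      | tmul c a =>
        rw [show c ⊗ₜ[k] a = G.toRingHom (c ⊗ₜ 1) * ((1 : K) ⊗ₜ a) by simp [G, Algebra.TensorProduct.tmul_mul_tmul]]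
        refine RingHom.IsIntegralElem.mul _ G.toRingHom.isIntegralElem_map ?_
        obtain ⟨f, hf, hfa⟩ := hgi a
        refine ⟨f.map (Algebra.TensorProduct.includeRight : P →ₐ[k] K ⊗[k] P).toRingHom, hf.map _, ?_⟩
        rw [Polynomial.eval₂_map]
        have hc : G.toRingHom.comp (Algebra.TensorProduct.includeRight : P →ₐ[k] K ⊗[k] P).toRingHom =
            (Algebra.TensorProduct.includeRight : A →ₐ[k] K ⊗[k] A).toRingHom.comp g.toRingHom := by
          exact RingHom.ext fun x => by simp [G]
        rw [hc, show (1 : K) ⊗ₜ[k] a = (Algebra.TensorProduct.includeRight : A →ₐ[k] K ⊗[k] A).toRingHom a from rfl,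
          ← Polynomial.hom_eval₂, hfa, map_zero]
    letI := G.toRingHom.toAlgebra
    have : Algebra.IsIntegral (K ⊗[k] P) (K ⊗[k] A) := ⟨hGi⟩
    rw [VarDim.ringKrullDim_eq_of_isIntegral (R := P) (S := A) hg,
      VarDim.ringKrullDim_eq_of_isIntegral (R := K ⊗[k] P) (S := K ⊗[k] A) hG, VarDim.ringKrullDim_mvPolynomial,
      ringKrullDim_eq_of_ringEquiv (MvPolynomial.algebraTensorAlgEquiv k K (σ := Fin s)).toRingEquiv,
      VarDim.ringKrullDim_mvPolynomial]

theorem dim_le_of_cover {X : Type*} [TopologicalSpace X] {c : WithBot ℕ∞} {ι : Type*} (U : ι → Set X)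
    (hU : ∀ i, IsOpen (U i)) (hcov : ∀ x, ∃ i, x ∈ U i) (h : ∀ i, topologicalKrullDim (U i) ≤ c) :
    topologicalKrullDim X ≤ c := by
  refine TopDimLib.dim_le fun p => ?_
  obtain ⟨x, hx⟩ := p.head.isIrreducible.nonempty
  obtain ⟨i, hi⟩ := hcov x
  exact (TopDimLib.length_le_open p (hU i) ⟨x, hx, hi⟩).trans (h i)

theorem dim_opens_eq {X : Scheme.{u}} {W : X.Opens} (hW : IsAffineOpen W) :
    topologicalKrullDim (W : Set X) = ringKrullDim Γ(X, W) := by
  rw [← PrimeSpectrum.topologicalKrullDim_eq_ringKrullDim]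
  exact IsHomeomorph.topologicalKrullDim_eq _ hW.isoSpec.hom.homeomorph.isHomeomorph

/-- The dimension of a scheme locally of finite type over a field does not change under a field extension. -/
theorem topologicalKrullDim_eq_of_isPullback {k K : CommRingCat.{u}} (φ : k ⟶ K) (hk : IsField k) (hK : IsField K)
    {F P : Scheme.{u}} (p : F ⟶ Spec k) [LocallyOfFiniteType p] (pr : P ⟶ F) (q : P ⟶ Spec K)
    (sq : IsPullback pr q p (Spec.map φ)) :
    topologicalKrullDim P = topologicalKrullDim F := by
  letI := hk.toField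
  letI := hK.toField
  letI : Algebra k K := φ.hom.toAlgebra
  have key : ∀ W : F.Opens, IsAffineOpen W →
      topologicalKrullDim ((pr ⁻¹ᵁ W : P.Opens) : Set P) = topologicalKrullDim (W : Set F) := by
    intro W hW
    obtain ⟨ψ, hψ⟩ := Spec.map_surjective (hW.fromSpec ≫ p)
    have hft : ψ.hom.FiniteType :=
      (HasRingHomProperty.Spec_iff (P := @LocallyOfFiniteType)).1 (hψ ▸ inferInstance)
    letI : Algebra k Γ(F, W) := ψ.hom.toAlgebra
    have : Algebra.FiniteType k Γ(F, W) := hft
    let e : Spec Γ(F, W) ⟶ F := hW.fromSpec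
    have sq1 : IsPullback (pullback.fst e pr) (pullback.snd e pr ≫ q) (e ≫ p) (Spec.map φ) :=
      ((IsPullback.of_hasPullback e pr).flip.paste_horiz sq.flip).flip
    have sq2 : IsPullback (pullback.fst e pr) (pullback.snd e pr ≫ q) (Spec.map (CommRingCat.ofHom (algebraMap k Γ(F, W))))
        (Spec.map (CommRingCat.ofHom (algebraMap k K))) := by
      rw [show CommRingCat.ofHom (algebraMap k Γ(F, W)) = ψ from rfl, hψ,
        show CommRingCat.ofHom (algebraMap k K) = φ from rfl]
      exact sq1
    let iso := sq2.isoPullback ≪≫ pullbackSymmetry _ _ ≪≫ pullbackSpecIso k K Γ(F, W)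
    have h1 : topologicalKrullDim ↑(pullback e pr) = ringKrullDim Γ(F, W) := by
      rw [IsHomeomorph.topologicalKrullDim_eq _ iso.hom.homeomorph.isHomeomorph, ← ringKrullDim_tensorProduct k K Γ(F, W)]
      exact PrimeSpectrum.topologicalKrullDim_eq_ringKrullDim _
    let iso2 := IsOpenImmersion.isoOfRangeEq (pullback.snd e pr) (pr ⁻¹ᵁ W).ι (by
      rw [Scheme.Pullback.range_snd, Scheme.Opens.range_ι, hW.range_fromSpec]
      rfl)
    rw [dim_opens_eq hW, ← h1]
    exact (IsHomeomorph.topologicalKrullDim_eq _ iso2.hom.homeomorph.isHomeomorph).symm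
  refine le_antisymm ?_ ?_
  · refine dim_le_of_cover (fun W : F.affineOpens => ((pr ⁻¹ᵁ W.1 : P.Opens) : Set P))
      (fun W => (pr ⁻¹ᵁ W.1).2) (fun x => ?_) (fun W => ?_)
    · obtain ⟨W, hW, hxW, -⟩ := exists_isAffineOpen_mem_and_subset (X := F) (x := pr x) (U := ⊤) trivial
      exact ⟨⟨W, hW⟩, hxW⟩
    · rw [key W.1 W.2]
      exact topologicalKrullDim_subspace_le _ _
  · refine dim_le_of_cover (fun W : F.affineOpens => (W.1 : Set F))
      (fun W => W.1.2) (fun x => ?_) (fun W => ?_)
    · obtain ⟨W, hW, hxW, -⟩ := exists_isAffineOpen_mem_and_subset (X := F) (x := x) (U := ⊤) trivial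
      exact ⟨⟨W, hW⟩, hxW⟩
    · rw [← key W.1 W.2]
      exact topologicalKrullDim_subspace_le _ _

end Groth.Agent.FibDim4
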