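import Groth.Agent.Lib.FlatH4.GenFreeMain
import Mathlib

/-!
# A morphism of finite type becomes finitely presented over a reduced open neighbourhood of a generic point
-/

universe u

open TensorProduct AlgebraicGeometry CategoryTheory Limits Topology

set_option backward.isDefEq.respectTransparency.types false

namespace Groth.Agent.FibDim4

theorem exists_open_subset_of_isConstructible {X : Type*} [TopologicalSpace X] {s : Set X} (hs : IsConstructible s)
    {η : X} (hη : ∀ U : Set X, IsOpen U → U.Nonempty → η ∈ U) (h : η ∈ s) :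
    ∃ O : Set X, IsOpen O ∧ η ∈ O ∧ O ⊆ s := by
  suffices key : ∃ O : Set X, IsOpen O ∧ η ∈ O ∧ (O ⊆ s ∨ O ⊆ sᶜ) by
    obtain ⟨O, hO, hηO, h' | h'⟩ := key
    · exact ⟨O, hO, hηO, h'⟩
    · exact absurd h (h' hηO)
  clear h
  induction hs using IsConstructible.empty_union_induction with
  | open_retrocompact U hU _ =>
    rcases U.eq_empty_or_nonempty with rfl | hne
    · exact ⟨Set.univ, isOpen_univ, trivial, Or.inr (by simp)⟩
    · exact ⟨U, hU, hη U hU hne, Or.inl subset_rfl⟩
  | union s hs t ht hs' ht' =>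
    obtain ⟨O, hO, hηO, h₁⟩ := hs'
    obtain ⟨O', hO', hηO', h₂⟩ := ht'
    refine ⟨O ∩ O', hO.inter hO', ⟨hηO, hηO'⟩, ?_⟩
    rcases h₁ with h₁ | h₁
    · exact Or.inl fun x hx => Or.inl (h₁ hx.1)
    · rcases h₂ with h₂ | h₂
      · exact Or.inl fun x hx => Or.inr (h₂ hx.2)
      · exact Or.inr fun x hx hxs => hxs.elim (h₁ hx.1) (h₂ hx.2)
  | compl s hs hs' =>
    obtain ⟨O, hO, hηO, h₁⟩ := hs'
    exact ⟨O, hO, hηO, by rw [compl_compl]; exact h₁.symm⟩

theorem exists_locallyOfFinitePresentation_of_isDomain {D : CommRingCat.{u}} [IsDomain D] {Z : Scheme.{u}}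
    (h : Z ⟶ Spec D) [LocallyOfFiniteType h] [QuasiCompact h] :
    ∃ c : D, c ≠ 0 ∧ LocallyOfFinitePresentation
      (pullback.snd h (Spec.map (CommRingCat.ofHom (algebraMap D (Localization.Away c))))) := by
  classical
  have : CompactSpace Z := QuasiCompact.compactSpace_of_compactSpace h
  let 𝒰 := Z.affineCover.finiteSubcover
  have : Finite 𝒰.I₀ := inferInstance
  cases nonempty_fintype 𝒰.I₀
  choose ψ hψ using fun k => Spec.map_surjective (((𝒰.X k).isoSpec.inv ≫ 𝒰.f k) ≫ h)
  have hft : ∀ k, (ψ k).hom.FiniteType := fun k =>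
    (HasRingHomProperty.Spec_iff (P := @LocallyOfFiniteType)).1 (hψ k ▸ inferInstance)
  let : ∀ k, Algebra D Γ(𝒰.X k, ⊤) := fun k => (ψ k).hom.toAlgebra
  have : ∀ k, Algebra.FiniteType D Γ(𝒰.X k, ⊤) := hft
  have hψ' : ∀ k, Spec.map (CommRingCat.ofHom (algebraMap D Γ(𝒰.X k, ⊤))) = ((𝒰.X k).isoSpec.inv ≫ 𝒰.f k) ≫ h := hψ
  choose c hc hfree using fun k => FlatH4.exists_free_and_finitePresentation (R := D) (S := Γ(𝒰.X k, ⊤))
  refine ⟨∏ k, c k, Finset.prod_ne_zero_iff.2 fun k _ => hc k, ?_⟩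
  let R' := Localization.Away (∏ k, c k)
  let j := Spec.map (CommRingCat.ofHom (algebraMap D R'))
  refine (IsZariskiLocalAtSource.iff_of_openCover (P := @LocallyOfFinitePresentation) (𝒰.pullback₁ (pullback.fst h j))).2 fun (k : 𝒰.I₀) => ?_
  change LocallyOfFinitePresentation (pullback.fst (pullback.fst h j) (𝒰.f k) ≫ pullback.snd h j)
  have sq : IsPullback (pullback.snd (pullback.fst h j) (𝒰.f k))
      (pullback.fst (pullback.fst h j) (𝒰.f k) ≫ pullback.snd h j) (𝒰.f k ≫ h) j :=
    ((IsPullback.of_hasPullback (pullback.fst h j) (𝒰.f k)).paste_horiz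
      (IsPullback.of_hasPullback h j).flip).flip
  have sq1 : IsPullback (pullback.snd (pullback.fst h j) (𝒰.f k) ≫ (𝒰.X k).isoSpec.hom)
      (pullback.fst (pullback.fst h j) (𝒰.f k) ≫ pullback.snd h j)
      (Spec.map (CommRingCat.ofHom (algebraMap D Γ(𝒰.X k, ⊤)))) j :=
    sq.of_iso (Iso.refl _) (𝒰.X k).isoSpec (Iso.refl _) (Iso.refl _) (by simp) (by simp)
      (((Category.comp_id _).trans (show _ = (𝒰.X k).isoSpec.hom ≫ (((𝒰.X k).isoSpec.inv ≫ 𝒰.f k) ≫ h) by simp)).trans
        (congrArg ((𝒰.X k).isoSpec.hom ≫ ·) (hψ' k).symm)) (by simp)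
  let iso := sq1.isoPullback ≪≫ pullbackSymmetry _ _ ≪≫ pullbackSpecIso D R' Γ(𝒰.X k, ⊤)
  have e : pullback.fst (pullback.fst h j) (𝒰.f k) ≫ pullback.snd h j =
      iso.hom ≫ Spec.map (CommRingCat.ofHom (algebraMap R' (R' ⊗[D] Γ(𝒰.X k, ⊤)))) := by
    refine sq1.isoPullback_hom_snd.symm.trans ?_
    simp only [iso, Iso.trans_hom, Category.assoc, Algebra.TensorProduct.algebraMap_def]
    erw [pullbackSpecIso_hom_fst]
    exact (congrArg (sq1.isoPullback.hom ≫ ·) (pullbackSymmetry_hom_comp_fst _ _)).symm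
  rw [e, MorphismProperty.cancel_left_of_respectsIso @LocallyOfFinitePresentation]
  refine (HasRingHomProperty.Spec_iff (P := @LocallyOfFinitePresentation)).2 ?_
  refine RingHom.finitePresentation_algebraMap.2 (hfree k R' ?_).2
  exact isUnit_of_dvd_unit (map_dvd _ (Finset.dvd_prod_of_mem c (Finset.mem_univ k)))
    (IsLocalization.Away.algebraMap_isUnit (∏ k, c k))

/-- A morphism of finite type with irreducible target becomes finitely presented after base change to a reduced
open neighbourhood of the generic point. -/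
theorem exists_generic_fp {X Y : Scheme.{u}} (f : X ⟶ Y) [IrreducibleSpace ↑Y] [LocallyOfFiniteType f]
    [QuasiCompact f] :
    ∃ (D : CommRingCat.{u}) (_ : IsDomain D) (i : Spec D ⟶ Y), IsPreimmersion i ∧ IsOpen (Set.range i) ∧
      genericPoint ↑Y ∈ Set.range i ∧ LocallyOfFinitePresentation (pullback.snd f i) := by
  let η := genericPoint ↑Y
  obtain ⟨V₀, hV₀, hηV, -⟩ := exists_isAffineOpen_mem_and_subset (X := Y) (x := η) (U := ⊤) trivial
  let P := hV₀.primeIdealOf ⟨η, hηV⟩
  have hmin : ∀ q : Spec Γ(Y, V₀), P.asIdeal ≤ q.asIdeal := fun q => by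
    refine (PrimeSpectrum.le_iff_specializes P q).2 ?_
    refine hV₀.fromSpec.isOpenEmbedding.isInducing.specializes_iff.1 ?_
    rw [hV₀.fromSpec_primeIdealOf]
    exact genericPoint_specializes _
  let D : CommRingCat.{u} := .of (Γ(Y, V₀) ⧸ P.asIdeal)
  let m := Spec.map (CommRingCat.ofHom (Ideal.Quotient.mk P.asIdeal))
  have : IsClosedImmersion m := IsClosedImmersion.spec_of_surjective _ Ideal.Quotient.mk_surjective
  obtain ⟨c, hc, hfp⟩ := exists_locallyOfFinitePresentation_of_isDomain (pullback.snd f (m ≫ hV₀.fromSpec))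
  let R' : CommRingCat.{u} := .of (Localization.Away c)
  have hdom : IsDomain (Localization.Away c) :=
    IsLocalization.isDomain_of_le_nonZeroDivisors (R := D) (Localization.Away c) (powers_le_nonZeroDivisors_of_noZeroDivisors hc)
  let l : Spec R' ⟶ Spec D := Spec.map (CommRingCat.ofHom (algebraMap D (Localization.Away c)))
  have : IsOpenImmersion l := IsOpenImmersion.of_isLocalization c
  refine ⟨R', hdom, l ≫ m ≫ hV₀.fromSpec, inferInstance, ?_, ?_, ?_⟩
  · have hsurj : Function.Surjective m := fun q => by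
      have : (q.asIdeal.map (Ideal.Quotient.mk P.asIdeal)).IsPrime :=
        Ideal.map_isPrime_of_surjective Ideal.Quotient.mk_surjective (by rw [Ideal.mk_ker]; exact hmin q)
      refine ⟨⟨q.asIdeal.map (Ideal.Quotient.mk P.asIdeal), this⟩, PrimeSpectrum.ext ?_⟩
      change Ideal.comap (Ideal.Quotient.mk P.asIdeal) _ = _
      rw [Ideal.comap_map_of_surjective _ Ideal.Quotient.mk_surjective, ← RingHom.ker_eq_comap_bot, Ideal.mk_ker,
        sup_eq_left]
      exact hmin q
    have hm : IsHomeomorph m := by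
      refine (isHomeomorph_iff_isEmbedding_surjective).2 ⟨m.isEmbedding, hsurj⟩
    rw [Scheme.Hom.comp_base, TopCat.coe_comp, Set.range_comp, Scheme.Hom.comp_base, TopCat.coe_comp, Set.image_comp]
    exact hV₀.fromSpec.isOpenEmbedding.isOpenMap _ (hm.isOpenMap _ l.isOpenEmbedding.isOpen_range)
  · have hbot : (⟨⊥, Ideal.isPrime_bot⟩ : Spec D) ∈ Set.range l := by
      change (⟨⊥, Ideal.isPrime_bot⟩ : PrimeSpectrum D) ∈ Set.range (PrimeSpectrum.comap (algebraMap D (Localization.Away c)))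
      rw [PrimeSpectrum.localization_away_comap_range (Localization.Away c) c]
      exact fun h => hc (Ideal.mem_bot.1 h)
    obtain ⟨x, hx⟩ := hbot
    refine ⟨x, ?_⟩
    rw [Scheme.Hom.comp_apply, Scheme.Hom.comp_apply, hx]
    refine (congrArg hV₀.fromSpec (PrimeSpectrum.ext ?_)).trans (hV₀.fromSpec_primeIdealOf ⟨η, hηV⟩)
    change Ideal.comap (Ideal.Quotient.mk P.asIdeal) ⊥ = P.asIdeal
    rw [← RingHom.ker_eq_comap_bot, Ideal.mk_ker]
  · have sq : IsPullback (pullback.fst (pullback.snd f (m ≫ hV₀.fromSpec)) l ≫ pullback.fst f (m ≫ hV₀.fromSpec))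
        (pullback.snd (pullback.snd f (m ≫ hV₀.fromSpec)) l) f (l ≫ m ≫ hV₀.fromSpec) :=
      (IsPullback.of_hasPullback _ l).paste_horiz (IsPullback.of_hasPullback f (m ≫ hV₀.fromSpec))
    rw [← sq.flip.flip.isoPullback_inv_snd]
    exact (MorphismProperty.cancel_left_of_respectsIso @LocallyOfFinitePresentation _ _).2 hfp

end Groth.Agent.FibDim4
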