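import Groth.Agent.Lib.FibDim4.Generic
import Mathlib

/-!
# Constancy of the fibre dimension near a generic point
-/

universe u

open TensorProduct AlgebraicGeometry CategoryTheory Limits

set_option backward.isDefEq.respectTransparency.types false

namespace Groth.Agent.FibDim4

theorem ringKrullDim_tensor_of_ker {A B L : Type u} [CommRing A] [CommRing B] [Algebra A B] [Algebra.FiniteType A B]
    [Field L] [Algebra A L] (p : Ideal A) [p.IsPrime] (hp : RingHom.ker (algebraMap A L) = p) :
    ringKrullDim (L ⊗[A] B) = ringKrullDim (p.ResidueField ⊗[A] B) := by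
  let φ : (A ⧸ p) →+* L := Ideal.Quotient.lift p (algebraMap A L) fun a ha => by
    rw [← RingHom.mem_ker, hp]; exact ha
  have hφ : Function.Injective φ := RingHom.lift_injective_of_ker_le_ideal p (fun a ha => by rw [← RingHom.mem_ker, hp]; exact ha) hp.le
  letI : Algebra p.ResidueField L := (IsFractionRing.lift (K := p.ResidueField) hφ).toAlgebra
  haveI : IsScalarTower A p.ResidueField L := .of_algebraMap_eq fun a => by
    rw [RingHom.algebraMap_toAlgebra, IsScalarTower.algebraMap_apply A (A ⧸ p) p.ResidueField,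
      IsFractionRing.lift_algebraMap]
    rfl
  rw [← ringKrullDim_eq_of_ringEquiv (Algebra.TensorProduct.cancelBaseChange A p.ResidueField p.ResidueField L B).toRingEquiv]
  exact ringKrullDim_tensorProduct p.ResidueField L (p.ResidueField ⊗[A] B)

/-- The algebra structure on the residue field of a point of an affine scheme. -/
theorem exists_chart_fibre {D : CommRingCat.{u}} {Z : Scheme.{u}} (h : Z ⟶ Spec D) [LocallyOfFiniteType h]
    {W : Z.Opens} (hW : IsAffineOpen W) :
    ∃ (B : CommRingCat.{u}) (_ : Algebra D B), Algebra.FiniteType D B ∧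
      (LocallyOfFinitePresentation h → Algebra.FinitePresentation D B) ∧
      ∀ q : Spec D, topologicalKrullDim ((h.fiberι q ⁻¹ᵁ W : (h.fiber q).Opens) : Set (h.fiber q)) =
        ringKrullDim (q.asIdeal.ResidueField ⊗[D] B) := by
  obtain ⟨ψ, hψ⟩ := Spec.map_surjective (hW.fromSpec ≫ h)
  have hft : ψ.hom.FiniteType :=
    (HasRingHomProperty.Spec_iff (P := @LocallyOfFiniteType)).1 (hψ ▸ inferInstance)
  letI : Algebra D Γ(Z, W) := ψ.hom.toAlgebra
  refine ⟨Γ(Z, W), ψ.hom.toAlgebra, hft, fun _ => (HasRingHomProperty.Spec_iff (P := @LocallyOfFinitePresentation)).1 (hψ ▸ inferInstance), fun q => ?_⟩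
  have : Algebra.FiniteType D Γ(Z, W) := hft
  obtain ⟨ρ, hρ⟩ := Spec.map_surjective ((Spec D).fromSpecResidueField q)
  letI : Field ((Spec D).residueField q) := inferInstance
  letI : Algebra D ((Spec D).residueField q) := ρ.hom.toAlgebra
  have hker : RingHom.ker (algebraMap D ((Spec D).residueField q)) = q.asIdeal := by
    have h1 := Scheme.fromSpecResidueField_apply q (default : Spec ((Spec D).residueField q))
    rw [← hρ] at h1
    rw [← congrArg PrimeSpectrum.asIdeal h1]
    ext a
    rw [RingHom.mem_ker, RingHom.algebraMap_toAlgebra]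
    change _ ↔ ρ.hom a ∈ (default : Spec ((Spec D).residueField q)).asIdeal
    have : (default : Spec ((Spec D).residueField q)).asIdeal.IsPrime := (default : Spec ((Spec D).residueField q)).isPrime
    rw [Ideal.eq_bot_of_prime (default : Spec ((Spec D).residueField q)).asIdeal, Ideal.mem_bot]
  rw [← ringKrullDim_tensor_of_ker (B := Γ(Z, W)) q.asIdeal hker]
  let e : Spec Γ(Z, W) ⟶ Z := hW.fromSpec
  have sq1 : IsPullback (pullback.fst e (h.fiberι q)) (pullback.snd e (h.fiberι q) ≫ h.fiberToSpecResidueField q)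
      (e ≫ h) ((Spec D).fromSpecResidueField q) :=
    ((IsPullback.of_hasPullback e (h.fiberι q)).flip.paste_horiz
      (IsPullback.of_hasPullback h ((Spec D).fromSpecResidueField q)).flip).flip
  have sq2 : IsPullback (pullback.fst e (h.fiberι q)) (pullback.snd e (h.fiberι q) ≫ h.fiberToSpecResidueField q)
      (Spec.map (CommRingCat.ofHom (algebraMap D Γ(Z, W))))
      (Spec.map (CommRingCat.ofHom (algebraMap D ((Spec D).residueField q)))) := by
    rw [← hρ, ← hψ] at sq1
    exact sq1
  let iso := sq2.isoPullback ≪≫ pullbackSymmetry _ _ ≪≫ pullbackSpecIso D ((Spec D).residueField q) Γ(Z, W)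
  let iso2 := IsOpenImmersion.isoOfRangeEq (pullback.snd e (h.fiberι q)) (h.fiberι q ⁻¹ᵁ W).ι (by
    rw [Scheme.Pullback.range_snd, Scheme.Opens.range_ι, hW.range_fromSpec]
    rfl)
  refine (IsHomeomorph.topologicalKrullDim_eq _ iso2.hom.homeomorph.isHomeomorph).symm.trans ?_
  refine (IsHomeomorph.topologicalKrullDim_eq _ iso.hom.homeomorph.isHomeomorph).trans ?_
  exact PrimeSpectrum.topologicalKrullDim_eq_ringKrullDim _

/-- Fibre dimensions of a morphism of finite type over an affine integral base are constant near the generic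
point. -/
theorem exists_forall_dim_fiber_of_isDomain {D : CommRingCat.{u}} [IsDomain D] {Z : Scheme.{u}} (h : Z ⟶ Spec D)
    [LocallyOfFiniteType h] [QuasiCompact h] :
    ∃ c : D, c ≠ 0 ∧ ∀ q : Spec D, c ∉ q.asIdeal →
      topologicalKrullDim ↑(h.fiber q) = topologicalKrullDim ↑(h.fiber ⟨⊥, Ideal.isPrime_bot⟩) := by
  classical
  have : CompactSpace Z := QuasiCompact.compactSpace_of_compactSpace h
  let 𝒰 := Z.affineCover.finiteSubcover
  have : Finite 𝒰.I₀ := inferInstance
  let W : 𝒰.I₀ → Z.Opens := fun j => (𝒰.f j).opensRange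
  have hW : ∀ j, IsAffineOpen (W j) := fun j => isAffineOpen_opensRange _
  choose B _ hB _ hdim using fun j => exists_chart_fibre h (hW j)
  have := hB
  choose c hc hcd using fun j => exists_forall_ringKrullDim_fibre (A := D) (B := B j)
  cases nonempty_fintype 𝒰.I₀
  refine ⟨∏ j, c j, Finset.prod_ne_zero_iff.2 fun j _ => hc j, fun q hq => ?_⟩
  let η : Spec D := ⟨⊥, Ideal.isPrime_bot⟩
  have key : ∀ j, topologicalKrullDim ((h.fiberι q ⁻¹ᵁ W j : (h.fiber q).Opens) : Set (h.fiber q)) =
      topologicalKrullDim ((h.fiberι η ⁻¹ᵁ W j : (h.fiber η).Opens) : Set (h.fiber η)) := fun j => by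
    rw [hdim, hdim, hcd j q.asIdeal (fun hh => hq (Ideal.mem_of_dvd _ (Finset.dvd_prod_of_mem c (Finset.mem_univ j)) hh)),
      hcd j η.asIdeal (fun hh => hc j hh)]
  have hle : ∀ (a b : Spec D), (∀ j, topologicalKrullDim ((h.fiberι a ⁻¹ᵁ W j : (h.fiber a).Opens) : Set (h.fiber a)) =
      topologicalKrullDim ((h.fiberι b ⁻¹ᵁ W j : (h.fiber b).Opens) : Set (h.fiber b))) →
      topologicalKrullDim ↑(h.fiber a) ≤ topologicalKrullDim ↑(h.fiber b) := fun a b hab => by
    refine dim_le_of_cover (fun j => ((h.fiberι a ⁻¹ᵁ W j : (h.fiber a).Opens) : Set (h.fiber a)))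
      (fun j => (h.fiberι a ⁻¹ᵁ W j).2) (fun x => ?_) (fun j => ?_)
    · obtain ⟨j, y, hy⟩ := 𝒰.exists_eq (h.fiberι a x)
      exact ⟨j, y, hy⟩
    · rw [hab j]
      exact topologicalKrullDim_subspace_le _ _
  exact le_antisymm (hle q η key) (hle η q fun j => (key j).symm)

/-- Fibre dimensions are constant near the generic point of an irreducible base. -/
theorem exists_forall_dim_fiber {X Y : Scheme.{u}} (f : X ⟶ Y) [IrreducibleSpace ↑Y] [LocallyOfFiniteType f]
    [QuasiCompact f] :
    ∃ V : Y.Opens, genericPoint ↑Y ∈ V ∧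
      ∀ y ∈ V, topologicalKrullDim ↑(f.fiber y) = topologicalKrullDim ↑(f.fiber (genericPoint ↑Y)) := by
  let η := genericPoint ↑Y
  obtain ⟨V₀, hV₀, hηV, -⟩ := exists_isAffineOpen_mem_and_subset (X := Y) (x := η) (U := ⊤) trivial
  let P := hV₀.primeIdealOf ⟨η, hηV⟩
  have hmin : ∀ q : Spec Γ(Y, V₀), P.asIdeal ≤ q.asIdeal := fun q => by
    refine (PrimeSpectrum.le_iff_specializes P q).2 ?_
    refine hV₀.fromSpec.isOpenEmbedding.isInducing.specializes_iff.1 ?_
    rw [hV₀.fromSpec_primeIdealOf]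
    exact genericPoint_specializes _
  have hP : P.asIdeal = nilradical Γ(Y, V₀) := by
    rw [nilradical_eq_sInf]
    exact le_antisymm (le_sInf fun J (hJ : J.IsPrime) => hmin ⟨J, hJ⟩) (sInf_le P.2)
  let D : CommRingCat.{u} := .of (Γ(Y, V₀) ⧸ P.asIdeal)
  let i : Spec D ⟶ Y := Spec.map (CommRingCat.ofHom (Ideal.Quotient.mk P.asIdeal)) ≫ hV₀.fromSpec
  let f' := pullback.snd f i
  obtain ⟨c, hc, hcd⟩ := exists_forall_dim_fiber_of_isDomain f'
  obtain ⟨c, rfl⟩ := Ideal.Quotient.mk_surjective c
  have hdim : ∀ q : Spec D, topologicalKrullDim ↑(f'.fiber q) = topologicalKrullDim ↑(f.fiber (i q)) := fun q => by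
    have h := AlgebraicGeometry.isPullback_fiberToSpecResidueField_of_isPullback (IsPullback.of_hasPullback f i) q
    have : LocallyOfFiniteType (f.fiberToSpecResidueField (i q)) :=
      MorphismProperty.pullback_snd (P := @LocallyOfFiniteType) _ _ inferInstance
    exact topologicalKrullDim_eq_of_isPullback (i.residueFieldMap q)
      (Field.toIsField _) (Field.toIsField _) (f.fiberToSpecResidueField (i q)) _ _ h
  have hiη : i ⟨⊥, Ideal.isPrime_bot⟩ = η := by
    rw [Scheme.Hom.comp_apply]
    refine (congrArg hV₀.fromSpec (PrimeSpectrum.ext ?_)).trans (hV₀.fromSpec_primeIdealOf ⟨η, hηV⟩)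
    change Ideal.comap (Ideal.Quotient.mk P.asIdeal) ⊥ = P.asIdeal
    rw [← RingHom.ker_eq_comap_bot, Ideal.mk_ker]
  have hcP : c ∉ P.asIdeal := fun h => hc (Ideal.Quotient.eq_zero_iff_mem.2 h)
  refine ⟨Y.basicOpen c, ?_, fun y hy => ?_⟩
  · rw [show genericPoint ↑Y = hV₀.fromSpec P from (hV₀.fromSpec_primeIdealOf ⟨η, hηV⟩).symm, ← Scheme.Hom.mem_preimage,
      hV₀.fromSpec_preimage_basicOpen]
    exact hcP
  · have hyV : y ∈ V₀ := Y.basicOpen_le c hy
    let Q := hV₀.primeIdealOf ⟨y, hyV⟩
    have : (Q.asIdeal.map (Ideal.Quotient.mk P.asIdeal)).IsPrime :=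
      Ideal.map_isPrime_of_surjective Ideal.Quotient.mk_surjective (by rw [Ideal.mk_ker]; exact hmin Q)
    let q : Spec D := ⟨Q.asIdeal.map (Ideal.Quotient.mk P.asIdeal), this⟩
    have hcomap : Ideal.comap (Ideal.Quotient.mk P.asIdeal) q.asIdeal = Q.asIdeal := by
      rw [Ideal.comap_map_of_surjective _ Ideal.Quotient.mk_surjective, ← RingHom.ker_eq_comap_bot, Ideal.mk_ker,
        sup_eq_left]
      exact hmin Q
    have hiq : i q = y := by
      rw [Scheme.Hom.comp_apply]
      exact (congrArg hV₀.fromSpec (PrimeSpectrum.ext hcomap)).trans (hV₀.fromSpec_primeIdealOf ⟨y, hyV⟩)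
    have hcQ : Ideal.Quotient.mk P.asIdeal c ∉ q.asIdeal := fun h => by
      have h1 : c ∈ Q.asIdeal := hcomap ▸ h
      have h2 : hV₀.fromSpec Q ∈ Y.basicOpen c := by
        rw [hV₀.fromSpec_primeIdealOf]; exact hy
      rw [← Scheme.Hom.mem_preimage, hV₀.fromSpec_preimage_basicOpen] at h2
      exact h2 h1
    have := hcd q hcQ
    rw [hdim, hdim, hiq, hiη] at this
    exact this

end Groth.Agent.FibDim4
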