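import Groth.Agent.Lib.FibDim4.GenericScheme
import Groth.Agent.Lib.PtSet.Constr
import Groth.Agent.Lib.FlatH4.NoethApprox

/-!
# Constructibility of the level sets of the fibre dimension
-/

universe u

open TensorProduct Topology

namespace Groth.Agent.FibDim4

theorem isConstructible_ringKrullDim_fibre_noetherian {A B : Type u} [CommRing A] [IsNoetherianRing A] [CommRing B]
    [Algebra A B] [Algebra.FiniteType A B] (n : WithBot ℕ∞) :
    IsConstructible {p : PrimeSpectrum A | ringKrullDim (p.asIdeal.ResidueField ⊗[A] B) = n} := by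
  refine PtSet.isConstructible_of_forall_irreducible _ fun Y hY hi hd => ?_
  have hi' : IsIrreducible Y := hi
  let P : PrimeSpectrum A := hi'.genericPoint
  have hYP : Y = closure {P} := by
    rw [show closure {P} = closure Y from hi'.genericPoint_closure_eq, hY.closure_eq]
  let D := A ⧸ P.asIdeal
  obtain ⟨c, hc, hcd⟩ := exists_forall_ringKrullDim_fibre (A := D) (B := D ⊗[A] B)
  obtain ⟨c, rfl⟩ := Ideal.Quotient.mk_surjective c
  have hcP : c ∉ P.asIdeal := fun h => hc (Ideal.Quotient.eq_zero_iff_mem.2 h)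
  -- all fibres over `Y ∩ D(c)` have the generic dimension
  have key : ∀ q ∈ Y, c ∉ q.asIdeal →
      ringKrullDim (q.asIdeal.ResidueField ⊗[A] B) = ringKrullDim (FractionRing D ⊗[D] (D ⊗[A] B)) := by
    intro q hq hcq
    have hle : P.asIdeal ≤ q.asIdeal := by
      rw [hYP, ← specializes_iff_mem_closure] at hq
      exact (PrimeSpectrum.le_iff_specializes P q).2 hq
    have : (q.asIdeal.map (Ideal.Quotient.mk P.asIdeal)).IsPrime :=
      Ideal.map_isPrime_of_surjective Ideal.Quotient.mk_surjective (by rw [Ideal.mk_ker]; exact hle)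
    let q' := q.asIdeal.map (Ideal.Quotient.mk P.asIdeal)
    have hcomap : Ideal.comap (Ideal.Quotient.mk P.asIdeal) q' = q.asIdeal := by
      rw [Ideal.comap_map_of_surjective _ Ideal.Quotient.mk_surjective, ← RingHom.ker_eq_comap_bot, Ideal.mk_ker,
        sup_eq_left]
      exact hle
    have hker : RingHom.ker (algebraMap A q'.ResidueField) = q.asIdeal := by
      rw [IsScalarTower.algebraMap_eq A D q'.ResidueField, ← RingHom.comap_ker, Ideal.ker_algebraMap_residueField]
      exact hcomap
    rw [← hcd q' (fun h => hcq (hcomap ▸ h)), ← ringKrullDim_tensor_of_ker (B := B) q.asIdeal hker]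
    exact (ringKrullDim_eq_of_ringEquiv
      (Algebra.TensorProduct.cancelBaseChange A D D q'.ResidueField B).toRingEquiv).symm
  have hPY : P ∈ Y := by rw [hYP]; exact subset_closure rfl
  obtain ⟨q, hqc, hqE, hqY⟩ : ∃ q : PrimeSpectrum A, c ∉ q.asIdeal ∧
      ringKrullDim (q.asIdeal.ResidueField ⊗[A] B) = n ∧ q ∈ Y := by
    obtain ⟨q, hq, hqE, hqY⟩ :=
      mem_closure_iff.1 (hd hPY) _ (PrimeSpectrum.basicOpen c).isOpen hcP
    exact ⟨q, hq, hqE, hqY⟩
  refine ⟨PrimeSpectrum.basicOpen c, (PrimeSpectrum.basicOpen c).isOpen, ⟨P, hcP, hPY⟩, fun r hr => ?_⟩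
  exact (key r hr.2 hr.1).trans ((key q hqY hqc).symm.trans hqE)

theorem isConstructible_ringKrullDim_fibre {A B : Type u} [CommRing A] [CommRing B]
    [Algebra A B] [Algebra.FinitePresentation A B] (n : WithBot ℕ∞) :
    IsConstructible {p : PrimeSpectrum A | ringKrullDim (p.asIdeal.ResidueField ⊗[A] B) = n} := by
  obtain ⟨R, B₀, _, _, _, _, hR, hB₀, ⟨e⟩⟩ := FlatH4.exists_approx A B
  have : IsNoetherianRing R := Algebra.FiniteType.isNoetherianRing ℤ R
  have h0 := isConstructible_ringKrullDim_fibre_noetherian (A := R) (B := B₀) n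
  have hretro : ∀ U : Set (PrimeSpectrum R), IsOpen U → IsRetrocompact U →
      IsRetrocompact (PrimeSpectrum.comap (algebraMap R A) ⁻¹' U) := fun U hU _ V hV hVc => by
    have hUc : IsCompact (PrimeSpectrum.comap (algebraMap R A) ⁻¹' U) :=
      AlgebraicGeometry.Scheme.Hom.isCompact_preimage
        (U := (⟨U, hU⟩ : (AlgebraicGeometry.Spec (CommRingCat.of R)).Opens))
        (AlgebraicGeometry.Spec.map (CommRingCat.ofHom (algebraMap R A)))
        (TopologicalSpace.NoetherianSpace.isCompact U)
    exact QuasiSeparatedSpace.inter_isCompact _ _ (hU.preimage (PrimeSpectrum.continuous_comap _)) hUc hVc hV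
  convert h0.preimage (PrimeSpectrum.continuous_comap (algebraMap R A)) hretro using 1
  ext p
  simp only [Set.mem_preimage, Set.mem_ofPred_eq]
  have hker : RingHom.ker (algebraMap R p.asIdeal.ResidueField) = (PrimeSpectrum.comap (algebraMap R A) p).asIdeal := by
    rw [IsScalarTower.algebraMap_eq R A p.asIdeal.ResidueField, ← RingHom.comap_ker,
      Ideal.ker_algebraMap_residueField]
    rfl
  have : ringKrullDim (p.asIdeal.ResidueField ⊗[A] B) =
      ringKrullDim ((PrimeSpectrum.comap (algebraMap R A) p).asIdeal.ResidueField ⊗[R] B₀) := by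
    rw [← ringKrullDim_tensor_of_ker (B := B₀) _ hker,
      ← ringKrullDim_eq_of_ringEquiv (Algebra.TensorProduct.congr (AlgEquiv.refl : p.asIdeal.ResidueField ≃ₐ[A] p.asIdeal.ResidueField) e).toRingEquiv]
    exact ringKrullDim_eq_of_ringEquiv
      (Algebra.TensorProduct.cancelBaseChange R A A p.asIdeal.ResidueField B₀).toRingEquiv
  rw [this]

end Groth.Agent.FibDim4
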