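import Groth.Agent.Lib.FibDim4.Basic
import Groth.Agent.Lib.FlatH4.GenFreeMain
import Mathlib

/-!
# Constancy of the fibre dimension over a dense open of an integral base
-/

universe u

open TensorProduct

namespace Groth.Agent.FibDim4

variable {A B : Type u} [CommRing A] [CommRing B] [Algebra A B]

theorem exists_denominator [IsDomain A] (z : FractionRing A ⊗[A] B) :
    ∃ a : A, a ≠ 0 ∧ ∃ b : B, algebraMap A (FractionRing A) a • z = 1 ⊗ₜ[A] b := by
  induction z using TensorProduct.induction_on with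
  | zero => exact ⟨1, one_ne_zero, 0, by simp⟩
  | tmul q b =>
    obtain ⟨n, d, hd, rfl⟩ := IsFractionRing.div_surjective (A := A) q
    refine ⟨d, nonZeroDivisors.ne_zero hd, n • b, ?_⟩
    rw [TensorProduct.smul_tmul', smul_eq_mul, mul_div_cancel₀ _ (IsFractionRing.to_map_ne_zero_of_mem_nonZeroDivisors hd),
      ← TensorProduct.smul_tmul, Algebra.smul_def, mul_one]
  | add x y hx hy =>
    obtain ⟨a, ha, b, hb⟩ := hx
    obtain ⟨a', ha', b', hb'⟩ := hy
    refine ⟨a * a', mul_ne_zero ha ha', a' • b + a • b', ?_⟩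
    rw [smul_add, map_mul, mul_comm (algebraMap A (FractionRing A) a), mul_smul, hb, mul_comm (algebraMap A (FractionRing A) a'),
      mul_smul, hb', algebraMap_smul, algebraMap_smul, TensorProduct.tmul_add, TensorProduct.tmul_smul, TensorProduct.tmul_smul]

theorem exists_ne_zero_smul_eq_zero [IsDomain A] {x : B} (hx : (1 : FractionRing A) ⊗ₜ[A] x = 0) :
    ∃ a : A, a ≠ 0 ∧ a • x = 0 := by
  have : IsLocalizedModule (nonZeroDivisors A) (TensorProduct.mk A (FractionRing A) B 1) :=
    (isLocalizedModule_iff_isBaseChange (nonZeroDivisors A) (FractionRing A) _).2 (TensorProduct.isBaseChange A B _)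
  obtain ⟨c, hc⟩ := (IsLocalizedModule.eq_zero_iff (nonZeroDivisors A) (TensorProduct.mk A (FractionRing A) B 1)).1 hx
  exact ⟨c, nonZeroDivisors.ne_zero c.2, hc⟩

/-- A Noether normalisation of the generic fibre given by elements of the algebra. -/
theorem exists_noether [IsDomain A] [Algebra.FiniteType A B] [Nontrivial (FractionRing A ⊗[A] B)] :
    ∃ (n : ℕ) (b : Fin n → B),
      Function.Injective (MvPolynomial.aeval (R := FractionRing A) fun i => (1 : FractionRing A) ⊗ₜ[A] b i) ∧
      (MvPolynomial.aeval (R := FractionRing A) fun i => (1 : FractionRing A) ⊗ₜ[A] b i).IsIntegral := by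
  let K := FractionRing A
  obtain ⟨n, g, hg, hgi⟩ := exists_integral_inj_algHom_of_fg K (K ⊗[A] B)
  choose d hd b hb using fun i => exists_denominator (A := A) (B := B) (g (MvPolynomial.X i))
  refine ⟨n, b, ?_⟩
  let σ : MvPolynomial (Fin n) K →ₐ[K] MvPolynomial (Fin n) K :=
    MvPolynomial.aeval fun i => MvPolynomial.C (algebraMap A K (d i)) * MvPolynomial.X i
  let τ : MvPolynomial (Fin n) K →ₐ[K] MvPolynomial (Fin n) K :=
    MvPolynomial.aeval fun i => MvPolynomial.C (algebraMap A K (d i))⁻¹ * MvPolynomial.X i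
  have hd' : ∀ i, algebraMap A K (d i) ≠ 0 := fun i =>
    (map_ne_zero_iff _ (IsFractionRing.injective A K)).2 (hd i)
  have hτσ : τ.comp σ = AlgHom.id K _ := MvPolynomial.algHom_ext fun i => by
    simp only [σ, τ, AlgHom.comp_apply, MvPolynomial.aeval_X, map_mul, MvPolynomial.aeval_C, MvPolynomial.algebraMap_eq]
    rw [← mul_assoc, ← map_mul, mul_inv_cancel₀ (hd' i), map_one, one_mul, AlgHom.id_apply]
  have hστ : σ.comp τ = AlgHom.id K _ := MvPolynomial.algHom_ext fun i => by
    simp only [σ, τ, AlgHom.comp_apply, MvPolynomial.aeval_X, map_mul, MvPolynomial.aeval_C, MvPolynomial.algebraMap_eq]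
    rw [← mul_assoc, ← map_mul, inv_mul_cancel₀ (hd' i), map_one, one_mul, AlgHom.id_apply]
  have heq : (MvPolynomial.aeval (R := K) fun i => (1 : K) ⊗ₜ[A] b i) = g.comp σ :=
    MvPolynomial.algHom_ext fun i => by
      rw [MvPolynomial.aeval_X, AlgHom.comp_apply, ← hb i]
      simp only [σ, MvPolynomial.aeval_X, map_mul]
      rw [← MvPolynomial.algebraMap_eq, AlgHom.commutes, ← Algebra.smul_def]
  rw [heq]
  refine ⟨hg.comp fun x y h => ?_, ?_⟩
  · simpa using (congrArg τ h : τ (σ x) = τ (σ y)) |> fun h' =>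
      (AlgHom.congr_fun hτσ x).symm.trans (h'.trans (AlgHom.congr_fun hτσ y))
  · exact RingHom.IsIntegral.trans σ.toRingHom g.toRingHom
      (RingHom.IsIntegral.of_finite (RingHom.Finite.of_surjective _ fun x => ⟨τ x, AlgHom.congr_fun hστ x⟩)) hgi

/-- Over a domain the dimension of the fibres of an algebra of finite type is constant near the generic point. -/
theorem exists_forall_ringKrullDim_fibre [IsDomain A] [Algebra.FiniteType A B] :
    ∃ c : A, c ≠ 0 ∧ ∀ (p : Ideal A) [p.IsPrime], c ∉ p →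
      ringKrullDim (p.ResidueField ⊗[A] B) = ringKrullDim (FractionRing A ⊗[A] B) := by
  classical
  let K := FractionRing A
  rcases subsingleton_or_nontrivial (K ⊗[A] B) with hs | hs
  · obtain ⟨a, ha, ha1⟩ := exists_ne_zero_smul_eq_zero (A := A) (x := (1 : B)) (Subsingleton.elim _ _)
    refine ⟨a, ha, fun p _ hp => ?_⟩
    have : Subsingleton (p.ResidueField ⊗[A] B) := by
      refine subsingleton_of_zero_eq_one ?_
      have hu : IsUnit (algebraMap A p.ResidueField a) := isUnit_iff_ne_zero.2 fun h => hp (by simpa using h)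
      refine hu.smul_left_cancel.1 ?_
      rw [smul_zero, algebraMap_smul, Algebra.TensorProduct.one_def, ← TensorProduct.tmul_smul, ha1,
        TensorProduct.tmul_zero]
    rw [ringKrullDim_eq_bot_of_subsingleton, ringKrullDim_eq_bot_of_subsingleton]
  obtain ⟨n, b, hinj, hint⟩ := exists_noether (A := A) (B := B)
  let gK := MvPolynomial.aeval (R := K) fun i => (1 : K) ⊗ₜ[A] b i
  let φ : MvPolynomial (Fin n) A →ₐ[A] B := MvPolynomial.aeval b
  have hcomp : ∀ (L : Type u) [Field L] [Algebra A L] (f : MvPolynomial (Fin n) A),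
      (1 : L) ⊗ₜ[A] φ f = MvPolynomial.aeval (R := L) (fun i => (1 : L) ⊗ₜ[A] b i) (MvPolynomial.map (algebraMap A L) f) := by
    intro L _ _ f
    induction f using MvPolynomial.induction_on with
    | C a =>
      simp only [φ, MvPolynomial.map_C, MvPolynomial.aeval_C, Algebra.TensorProduct.algebraMap_apply,
        Algebra.algebraMap_self_apply]
      rw [Algebra.algebraMap_eq_smul_one (A := B), TensorProduct.tmul_smul, TensorProduct.smul_tmul',
        Algebra.smul_def, mul_one]
    | add p q hp hq => simp [TensorProduct.tmul_add, hp, hq]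
    | mul_X p i hp =>
      simp only [map_mul, MvPolynomial.map_X, MvPolynomial.aeval_X, φ] at hp ⊢
      rw [← hp, Algebra.TensorProduct.tmul_mul_tmul, one_mul]
  have hφ : Function.Injective φ := by
    rw [injective_iff_map_eq_zero]
    intro f hf
    refine MvPolynomial.map_injective (algebraMap A K) (IsFractionRing.injective A K) ?_
    rw [map_zero]
    refine hinj ?_
    rw [map_zero]
    exact (hcomp K f).symm.trans (by rw [hf, TensorProduct.tmul_zero])
  -- surjectivity of `Spec B → 𝔸ⁿ_A` over a basic open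
  letI := φ.toRingHom.toAlgebra
  have : IsScalarTower A (MvPolynomial (Fin n) A) B := .of_algebraMap_eq fun a => (φ.commutes a).symm
  have : Algebra.FiniteType (MvPolynomial (Fin n) A) B := Algebra.FiniteType.of_restrictScalars_finiteType A _ B
  obtain ⟨h, hh, hfree⟩ := FlatH4.exists_free_and_finitePresentation (R := MvPolynomial (Fin n) A) (S := B)
  obtain ⟨m, hm⟩ := (MvPolynomial.ne_zero_iff).1 hh
  -- integrality of a generating set
  obtain ⟨s, hs⟩ := (Algebra.FiniteType.out : (⊤ : Subalgebra A B).FG)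
  have hden : ∀ x : B, ∃ a : A, a ≠ 0 ∧ ∀ (L : Type u) [Field L] [Algebra A L], algebraMap A L a ≠ 0 →
      (MvPolynomial.aeval (R := L) fun i => (1 : L) ⊗ₜ[A] b i).toRingHom.IsIntegralElem ((1 : L) ⊗ₜ[A] x) := by
    intro x
    obtain ⟨P, hP, hPx⟩ := hint ((1 : K) ⊗ₜ[A] x)
    letI : Algebra (MvPolynomial (Fin n) A) (MvPolynomial (Fin n) K) := (MvPolynomial.map (algebraMap A K)).toAlgebra
    letI : Algebra (MvPolynomial (Fin n) K) (K ⊗[A] B) := gK.toRingHom.toAlgebra
    letI : Algebra (MvPolynomial (Fin n) A) (K ⊗[A] B) := (gK.toRingHom.comp (MvPolynomial.map (algebraMap A K))).toAlgebra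
    haveI : IsScalarTower (MvPolynomial (Fin n) A) (MvPolynomial (Fin n) K) (K ⊗[A] B) := .of_algebraMap_eq' rfl
    haveI : IsLocalization ((nonZeroDivisors A).map (MvPolynomial.C : A →+* MvPolynomial (Fin n) A)) (MvPolynomial (Fin n) K) :=
      MvPolynomial.isLocalization (nonZeroDivisors A) K
    obtain ⟨⟨_, a, ha, rfl⟩, Q, hQ, hQx⟩ := IsIntegral.exists_multiple_integral_of_isLocalization
      ((nonZeroDivisors A).map (MvPolynomial.C : A →+* MvPolynomial (Fin n) A)) (Rₘ := MvPolynomial (Fin n) K)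
      ((1 : K) ⊗ₜ[A] x) ⟨P, hP, hPx⟩
    have h0 : (1 : K) ⊗ₜ[A] Q.eval₂ φ.toRingHom (φ (MvPolynomial.C a) * x) = 0 := by
      refine Eq.trans ?_ hQx
      rw [Submonoid.smul_def, Algebra.smul_def, RingHom.algebraMap_toAlgebra, RingHom.comp_apply]
      change (Algebra.TensorProduct.includeRight : B →ₐ[A] K ⊗[A] B).toRingHom _ = _
      rw [Polynomial.hom_eval₂]
      congr 1
      · exact RingHom.ext fun f => hcomp K f
      · change (1 : K) ⊗ₜ[A] (φ (MvPolynomial.C a) * x) = gK (MvPolynomial.map (algebraMap A K) (MvPolynomial.C a)) * ((1 : K) ⊗ₜ[A] x)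
        rw [← hcomp K, Algebra.TensorProduct.tmul_mul_tmul, one_mul]
    obtain ⟨a', ha', ha'0⟩ := exists_ne_zero_smul_eq_zero h0
    refine ⟨a * a', mul_ne_zero (nonZeroDivisors.ne_zero ha) ha', fun L _ _ hL => ?_⟩
    rw [map_mul, mul_ne_zero_iff] at hL
    let Ψ := (MvPolynomial.aeval (R := L) fun i => (1 : L) ⊗ₜ[A] b i)
    have h1 : Ψ.toRingHom.IsIntegralElem ((1 : L) ⊗ₜ[A] (φ (MvPolynomial.C a) * x)) := by
      refine ⟨Q.map (MvPolynomial.map (algebraMap A L)), hQ.map _, ?_⟩
      rw [Polynomial.eval₂_map, show Ψ.toRingHom.comp (MvPolynomial.map (algebraMap A L)) =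
        (Algebra.TensorProduct.includeRight : B →ₐ[A] L ⊗[A] B).toRingHom.comp φ.toRingHom from
          RingHom.ext fun f => (hcomp L f).symm,
        show (1 : L) ⊗ₜ[A] (φ (MvPolynomial.C a) * x) =
          (Algebra.TensorProduct.includeRight : B →ₐ[A] L ⊗[A] B).toRingHom (φ (MvPolynomial.C a) * x) from rfl,
        ← Polynomial.hom_eval₂]
      change (1 : L) ⊗ₜ[A] Q.eval₂ φ.toRingHom (φ (MvPolynomial.C a) * x) = 0
      have := congrArg ((1 : L) ⊗ₜ[A] ·) ha'0
      simp only [TensorProduct.tmul_zero, TensorProduct.tmul_smul] at this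
      rw [← algebraMap_smul L] at this
      exact (smul_eq_zero_iff_right hL.2).1 this
    have h2 := RingHom.IsIntegralElem.mul Ψ.toRingHom
      (Ψ.toRingHom.isIntegralElem_map (x := MvPolynomial.C (algebraMap A L a)⁻¹)) h1
    have e : Ψ.toRingHom (MvPolynomial.C (algebraMap A L a)⁻¹) * ((1 : L) ⊗ₜ[A] (φ (MvPolynomial.C a) * x)) = (1 : L) ⊗ₜ[A] x := by
      change Ψ (MvPolynomial.C (algebraMap A L a)⁻¹) * _ = _
      rw [show φ (MvPolynomial.C a) = algebraMap A B a from φ.commutes a,
        MvPolynomial.aeval_C, Algebra.TensorProduct.algebraMap_apply, Algebra.algebraMap_self_apply,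
        Algebra.TensorProduct.tmul_mul_tmul, one_mul, mul_one, Algebra.algebraMap_eq_smul_one (A := B), smul_mul_assoc, one_mul,
        TensorProduct.tmul_smul, TensorProduct.smul_tmul', Algebra.smul_def, mul_inv_cancel₀ hL.1]
    rw [e] at h2
    exact h2
  choose a ha ha' using hden
  refine ⟨h.coeff m * ∏ x ∈ s, a x, mul_ne_zero hm (Finset.prod_ne_zero_iff.2 fun x _ => ha x), fun p _ hp => ?_⟩
  let L := p.ResidueField
  let Ψ := (MvPolynomial.aeval (R := L) fun i => (1 : L) ⊗ₜ[A] b i)
  have hpm : h.coeff m ∉ p := fun hh => hp (p.mul_mem_right _ hh)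
  have hpa : ∀ x ∈ s, algebraMap A L (a x) ≠ 0 := fun x hx hh =>
    hp (p.mul_mem_left _ (Ideal.mem_of_dvd _ (Finset.dvd_prod_of_mem a hx) (Ideal.algebraMap_residueField_eq_zero.1 hh)))
  -- integral
  have hΨi : Ψ.IsIntegral := by
    let _ := Ψ.toRingHom.toAlgebra
    haveI : IsScalarTower L (MvPolynomial (Fin n) L) (L ⊗[A] B) := .of_algebraMap_eq fun r => (Ψ.commutes r).symm
    let I := (integralClosure (MvPolynomial (Fin n) L) (L ⊗[A] B)).restrictScalars L
    have hB : ∀ x : B, (1 : L) ⊗ₜ[A] x ∈ I := fun x => by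
      have : (⊤ : Subalgebra A B) ≤ (I.restrictScalars A).comap (Algebra.TensorProduct.includeRight : B →ₐ[A] L ⊗[A] B) := by
        rw [← hs]
        exact Algebra.adjoin_le fun y hy => ha' y L (hpa y hy)
      exact this (x := x) trivial
    intro z
    change z ∈ I
    induction z using TensorProduct.induction_on with
    | zero => exact zero_mem _
    | add x y hx hy => exact add_mem hx hy
    | tmul c x =>
      rw [show c ⊗ₜ[A] x = c • ((1 : L) ⊗ₜ[A] x) by rw [TensorProduct.smul_tmul', smul_eq_mul, mul_one]]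
      exact I.smul_mem (hB x) c
  -- injective
  have hΨ : Function.Injective Ψ := by
    let P₀ : Ideal (MvPolynomial (Fin n) A) := RingHom.ker (MvPolynomial.map (algebraMap A L))
    have : P₀.IsPrime := RingHom.ker_isPrime _
    have hh0 : h ∉ P₀ := fun hh => hpm (by
      have := congrArg (MvPolynomial.coeff m) (RingHom.mem_ker.1 hh)
      rw [MvPolynomial.coeff_map, MvPolynomial.coeff_zero] at this
      exact Ideal.algebraMap_residueField_eq_zero.1 this)
    let R' := Localization.Away h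
    have := (hfree R' (IsLocalization.Away.algebraMap_isUnit h)).1
    have : Nontrivial (R' ⊗[MvPolynomial (Fin n) A] B) := by
      refine nontrivial_of_ne (1 : R' ⊗[MvPolynomial (Fin n) A] B) 0 fun h10 => ?_
      have : IsLocalizedModule (Submonoid.powers h) (TensorProduct.mk (MvPolynomial (Fin n) A) R' B 1) :=
        (isLocalizedModule_iff_isBaseChange (Submonoid.powers h) R' _).2 (TensorProduct.isBaseChange _ B _)
      obtain ⟨⟨_, k, rfl⟩, hk⟩ := (IsLocalizedModule.eq_zero_iff (Submonoid.powers h)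
        (TensorProduct.mk (MvPolynomial (Fin n) A) R' B 1)).1 (show (1 : R') ⊗ₜ (1 : B) = 0 from h10)
      rw [Submonoid.smul_def, Algebra.smul_def, mul_one] at hk
      exact hh (eq_zero_of_pow_eq_zero (hφ (hk.trans (map_zero φ).symm)))
    obtain ⟨P₁, hP₁⟩ : ∃ P₁ : PrimeSpectrum R', P₁.asIdeal.comap (algebraMap _ R') = P₀ := by
      have : (⟨P₀, ‹_›⟩ : PrimeSpectrum _) ∈ Set.range (PrimeSpectrum.comap (algebraMap (MvPolynomial (Fin n) A) R')) := by
        rw [PrimeSpectrum.localization_away_comap_range R' h]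
        exact hh0
      obtain ⟨P₁, hP₁⟩ := this
      exact ⟨P₁, congrArg PrimeSpectrum.asIdeal hP₁⟩
    obtain ⟨q₁, hq₁⟩ := PrimeSpectrum.comap_surjective_of_faithfullyFlat (A := R') (B := R' ⊗[MvPolynomial (Fin n) A] B) P₁
    let q : Ideal B := q₁.asIdeal.comap (Algebra.TensorProduct.includeRight : B →ₐ[MvPolynomial (Fin n) A] R' ⊗[MvPolynomial (Fin n) A] B).toRingHom
    have : q.IsPrime := Ideal.IsPrime.comap _
    have hq : q.comap φ.toRingHom = P₀ := by
      rw [← hP₁, ← hq₁, PrimeSpectrum.comap_asIdeal, Ideal.comap_comap, Ideal.comap_comap]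
      congr 1
      exact RingHom.ext fun f => ((Algebra.TensorProduct.includeRight : B →ₐ[MvPolynomial (Fin n) A] R' ⊗[MvPolynomial (Fin n) A] B).commutes f).trans
        (IsScalarTower.algebraMap_apply (MvPolynomial (Fin n) A) R' (R' ⊗[MvPolynomial (Fin n) A] B) f)
    have hqA : ∀ r : A, algebraMap A B r ∈ q ↔ r ∈ p := fun r => by
      rw [← φ.commutes r]
      change MvPolynomial.C r ∈ q.comap φ.toRingHom ↔ _
      rw [hq, RingHom.mem_ker, MvPolynomial.map_C, map_eq_zero_iff _ (MvPolynomial.C_injective _ _),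
        Ideal.algebraMap_residueField_eq_zero]
    let ρ : L →+* q.ResidueField := Ideal.ResidueField.map p q (algebraMap A B) (Ideal.ext fun r => (hqA r).symm)
    have hρ : ∀ r, ρ (algebraMap A L r) = algebraMap A q.ResidueField r := fun r => by
      rw [IsScalarTower.algebraMap_apply A B q.ResidueField]
      exact Ideal.ResidueField.map_algebraMap p q (algebraMap A B) _ r
    let ρ' : L →ₐ[A] q.ResidueField := { ρ with commutes' := hρ }
    let χ := Algebra.TensorProduct.lift ρ' (IsScalarTower.toAlgHom A B q.ResidueField) fun _ _ => Commute.all _ _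
    rw [injective_iff_map_eq_zero]
    intro f hf
    letI : Algebra (MvPolynomial (Fin n) A) (MvPolynomial (Fin n) L) := (MvPolynomial.map (algebraMap A L)).toAlgebra
    obtain ⟨⟨r, hr⟩, f₀, hf₀⟩ : ∃ (r : {r : A // algebraMap A L r ≠ 0}) (f₀ : MvPolynomial (Fin n) A),
        MvPolynomial.C (algebraMap A L r.1) * f = MvPolynomial.map (algebraMap A L) f₀ := by
      clear hf
      induction f using MvPolynomial.induction_on' with
      | monomial d c =>
        obtain ⟨c₁, c₂, hc₂, hc⟩ : ∃ c₁ c₂ : A, algebraMap A L c₂ ≠ 0 ∧ algebraMap A L c₂ * c = algebraMap A L c₁ := by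
          obtain ⟨u, v, hv, rfl⟩ := IsFractionRing.div_surjective (A := A ⧸ p) c
          obtain ⟨u, rfl⟩ := Ideal.Quotient.mk_surjective u
          obtain ⟨v, rfl⟩ := Ideal.Quotient.mk_surjective v
          have : ∀ t, algebraMap A L t = algebraMap (A ⧸ p) L (Ideal.Quotient.mk p t) := fun t =>
            IsScalarTower.algebraMap_apply A (A ⧸ p) L t
          refine ⟨u, v, ?_, ?_⟩
          · rw [this]; exact IsFractionRing.to_map_ne_zero_of_mem_nonZeroDivisors hv
          · rw [this, this, mul_div_cancel₀ _ (IsFractionRing.to_map_ne_zero_of_mem_nonZeroDivisors hv)]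
        exact ⟨⟨c₂, hc₂⟩, MvPolynomial.monomial d c₁, by rw [MvPolynomial.C_mul_monomial, hc, MvPolynomial.map_monomial]⟩
      | add f g ihf ihg =>
        obtain ⟨⟨r, hr⟩, f₀, hf₀⟩ := ihf
        obtain ⟨⟨r', hr'⟩, g₀, hg₀⟩ := ihg
        refine ⟨⟨r * r', by rw [map_mul]; exact mul_ne_zero hr hr'⟩, MvPolynomial.C r' * f₀ + MvPolynomial.C r * g₀, ?_⟩
        simp only [map_add, map_mul, MvPolynomial.map_C, ← hf₀, ← hg₀]
        ring
    have h3 : f₀ ∈ P₀ := by
      rw [← hq]
      change φ f₀ ∈ q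
      rw [← Ideal.algebraMap_residueField_eq_zero (I := q)]
      have : χ ((1 : L) ⊗ₜ[A] φ f₀) = 0 := by
        rw [hcomp L f₀, ← hf₀, map_mul]
        change χ (_ * Ψ f) = 0
        rw [hf, mul_zero, map_zero]
      simpa [χ] using this
    rw [RingHom.mem_ker] at h3
    rw [h3] at hf₀
    exact (mul_eq_zero.1 hf₀).resolve_left fun hC => hr (MvPolynomial.C_eq_zero.1 hC)
  let _ := Ψ.toRingHom.toAlgebra
  let _ := gK.toRingHom.toAlgebra
  have : Algebra.IsIntegral (MvPolynomial (Fin n) L) (L ⊗[A] B) := ⟨hΨi⟩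
  have : Algebra.IsIntegral (MvPolynomial (Fin n) K) (K ⊗[A] B) := ⟨hint⟩
  rw [VarDim.ringKrullDim_eq_of_isIntegral (R := MvPolynomial (Fin n) L) (S := L ⊗[A] B) hΨ,
    VarDim.ringKrullDim_eq_of_isIntegral (R := MvPolynomial (Fin n) K) (S := K ⊗[A] B) hinj,
    VarDim.ringKrullDim_mvPolynomial, VarDim.ringKrullDim_mvPolynomial]

end Groth.Agent.FibDim4
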